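/-
helper91: project TWOUT (S2129, S2130: orders of the outer automorphism groups of the twisted groups ³D₄(q), ²E₆(q)),
shared abstract definitions.  `SplitBN` = the facts about a finite group with a split (B,N)-pair of characteristic `p`
which Steinberg's argument uses (Part I: every automorphism is inner times one fixing `U`, `V` and permuting the
fundamental root subgroups).  `sx`, `sy`, `hd`, `wn` = the standard elements of `SL₂`.  `Nrm` = the automorphisms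
fixing `U` and `V`.
-/
import Mathlib
import Cfsg.Prelude.Def_LieExceptional
import Cfsg.Prelude.Def_KGroupFacts

set_option autoImplicit false

namespace Cfsg.Agent.Lib.Helper91.TwOut

open Cfsg

/-- A split (B,N)-pair of characteristic `p` with fundamental root subgroups `X i`, `Y i` (`Y i` the negative ones),
indexed by the nodes `i : ι`; `s i` are the distinguished generators, `n₀` represents the longest element, `op` is the
opposition permutation of the nodes, `Um n` is the subgroup `U_n^-` of the elements of `U` made negative by `n ∈ N`,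
`p ^ e i` is the order of `X i`. -/
structure SplitBN (Γ : Type*) [Group Γ] (ι : Type*) (p : ℕ) where
  P : Cfsg.BNPair Γ
  U : Subgroup Γ
  V : Subgroup Γ
  Um : Γ → Subgroup Γ
  s : ι → Γ
  X : ι → Subgroup Γ
  Y : ι → Subgroup Γ
  e : ι → ℕ
  n₀ : Γ
  op : Equiv.Perm ι
  S_eq : P.S = Set.range s
  pU : IsPGroup p U
  idxU : ¬ p ∣ U.index
  U_le : U ≤ P.B
  U_norm : ∀ b ∈ P.B, ∀ u ∈ U, b * u * b⁻¹ ∈ U
  B_eq : ∀ b ∈ P.B, ∃ u ∈ U, ∃ h ∈ P.B ⊓ P.N, b = u * h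
  V_inf_B : V ⊓ P.B = ⊥
  n₀_mem : n₀ ∈ P.N
  V_eq : ∀ g, g ∈ V ↔ n₀⁻¹ * g * n₀ ∈ U
  U_eq : ∀ g, g ∈ U ↔ n₀⁻¹ * g * n₀ ∈ V
  Um_le : ∀ n, Um n ≤ U
  Um_conj : ∀ n, ∀ u ∈ Um n, n * u * n⁻¹ ∈ V
  Um_diag : ∀ n, ∀ h ∈ P.B ⊓ P.N, Um (n * h) = Um n
  form : ∀ g : Γ, ∃ u₀ ∈ U, ∃ n ∈ P.N, ∃ u ∈ Um n, g = u₀ * n * u
  Um_s : ∀ i, Um (s i) = X i
  Y_eq : ∀ i g, g ∈ Y i ↔ (s i)⁻¹ * g * s i ∈ X i
  X_eq : ∀ i g, g ∈ X i ↔ n₀⁻¹ * g * n₀ ∈ Y (op i)
  card_X : ∀ i, Nat.card ↥(X i) = p ^ e i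
  e_pos : ∀ i, 0 < e i

/-- The automorphisms fixing `U` and `V`. -/
def Nrm {Γ : Type*} [Group Γ] (U V : Subgroup Γ) : Subgroup (MulAut Γ) where
  carrier := {θ | U.map θ.toMonoidHom = U ∧ V.map θ.toMonoidHom = V}
  mul_mem' := by
    rintro a b ⟨ha1, ha2⟩ ⟨hb1, hb2⟩
    refine ⟨?_, ?_⟩
    · have : (a * b).toMonoidHom = a.toMonoidHom.comp b.toMonoidHom := rfl
      rw [this, ← Subgroup.map_map, hb1, ha1]
    · have : (a * b).toMonoidHom = a.toMonoidHom.comp b.toMonoidHom := rfl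
      rw [this, ← Subgroup.map_map, hb2, ha2]
  one_mem' := by
    refine ⟨?_, ?_⟩
    · have : (1 : MulAut Γ).toMonoidHom = MonoidHom.id Γ := rfl
      rw [this, Subgroup.map_id]
    · have : (1 : MulAut Γ).toMonoidHom = MonoidHom.id Γ := rfl
      rw [this, Subgroup.map_id]
  inv_mem' := by
    rintro a ⟨ha1, ha2⟩
    have key : ∀ W : Subgroup Γ, W.map a.toMonoidHom = W → W.map (a⁻¹).toMonoidHom = W := by
      intro W hW
      have h1 : (W.map a.toMonoidHom).map (a⁻¹).toMonoidHom = W := by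
        rw [Subgroup.map_map]
        have : (a⁻¹).toMonoidHom.comp a.toMonoidHom = MonoidHom.id Γ := by
          ext x
          show a⁻¹ (a x) = x
          exact a.symm_apply_apply x
        rw [this, Subgroup.map_id]
      rw [hW] at h1
      exact h1
    exact ⟨key U ha1, key V ha2⟩

theorem mem_Nrm {Γ : Type*} [Group Γ] (U V : Subgroup Γ) (θ : MulAut Γ) :
    θ ∈ Nrm U V ↔ U.map θ.toMonoidHom = U ∧ V.map θ.toMonoidHom = V := Iff.rfl

section SL2

variable {F : Type*} [Field F]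

/-- The upper unitriangular matrix of `SL₂`. -/
def sx (t : F) : Matrix.SpecialLinearGroup (Fin 2) F :=
  ⟨!![1, t; 0, 1], by simp [Matrix.det_fin_two_of]⟩

/-- The lower unitriangular matrix of `SL₂`. -/
def sy (t : F) : Matrix.SpecialLinearGroup (Fin 2) F :=
  ⟨!![1, 0; t, 1], by simp [Matrix.det_fin_two_of]⟩

/-- The diagonal matrix `diag(t, t⁻¹)` of `SL₂`. -/
def hd (t : Fˣ) : Matrix.SpecialLinearGroup (Fin 2) F :=
  ⟨!![(t : F), 0; 0, ((t⁻¹ : Fˣ) : F)], by simp [Matrix.det_fin_two_of]⟩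

/-- The monomial matrix `[[0, t], [-t⁻¹, 0]]` of `SL₂`. -/
def wn (t : Fˣ) : Matrix.SpecialLinearGroup (Fin 2) F :=
  ⟨!![0, (t : F); -((t⁻¹ : Fˣ) : F), 0], by simp [Matrix.det_fin_two_of]⟩

theorem coe_sx (t : F) :
    ((sx t : Matrix.SpecialLinearGroup (Fin 2) F) : Matrix (Fin 2) (Fin 2) F) = !![1, t; 0, 1] := rfl

theorem coe_sy (t : F) :
    ((sy t : Matrix.SpecialLinearGroup (Fin 2) F) : Matrix (Fin 2) (Fin 2) F) = !![1, 0; t, 1] := rfl

theorem coe_hd (t : Fˣ) :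
    ((hd t : Matrix.SpecialLinearGroup (Fin 2) F) : Matrix (Fin 2) (Fin 2) F) =
      !![(t : F), 0; 0, ((t⁻¹ : Fˣ) : F)] := rfl

theorem coe_wn (t : Fˣ) :
    ((wn t : Matrix.SpecialLinearGroup (Fin 2) F) : Matrix (Fin 2) (Fin 2) F) =
      !![0, (t : F); -((t⁻¹ : Fˣ) : F), 0] := rfl

end SL2

end Cfsg.Agent.Lib.Helper91.TwOut
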