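/-
helper91: project TWOUT, the twisted groups of helper18's machine as instances of `SplitBN`, generic part: the
decomposition `B¹ = U¹ H¹`, the subgroups `U_n^- ∩ G¹`, the sharp Bruhat form, the longest element.
-/
import Cfsg.Agent.Lib.Helper91.TwOut.Defs
import Cfsg.Agent.Lib.Helper18.Tw15

set_option autoImplicit false

namespace Cfsg.Agent.Lib.Helper91.TwOut

open Cfsg Cfsg.Lie Cfsg.Agent.Lib.Helper18 Cfsg.Agent.Lib.Helper17

universe u

variable {K : Type u} [Field K] {D : ChevalleyDatum}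

section Gen

variable (hD : D ∈ [chevG2, chevB2, chevD4, chevF4, chevE6, chevE7, chevE8])

include hD in
/-- `B` normalises `U`. -/
theorem borel_conj_mem (b u : GL D.Idx K) (hb : b ∈ D.borelSubgroup K) (hu : u ∈ D.posUnipotent K) :
    b * u * b⁻¹ ∈ D.posUnipotent K := by
  have hN : D.borelSubgroup K ≤ Subgroup.normalizer (D.posUnipotent K : Set (GL D.Idx K)) := by
    unfold ChevalleyDatum.borelSubgroup
    exact sup_le Subgroup.le_normalizer (Cfsg.Agent.S1036.result D hD).1
  exact ((Subgroup.mem_normalizer_iff.mp (hN hb)) u).mp hu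

include hD in
/-- The elements of `U_n^-` are made negative by `n`. -/
theorem conj_mem_neg_of_mem_closure (n u : GL D.Idx K) (hu : u ∈ Subgroup.closure (UnegSet D K n)) :
    n * u * n⁻¹ ∈ D.negUnipotent K := by
  have h : Subgroup.closure (UnegSet D K n) ≤ (D.negUnipotent K).comap (MulAut.conj n).toMonoidHom := by
    rw [Subgroup.closure_le]
    rintro x ⟨r, t, hr, hle, hx⟩
    have hx' : x = xG hD r t := eq_xG hD _ r t hx
    show n * x * n⁻¹ ∈ D.negUnipotent K
    exact hle (Subgroup.mem_map_of_mem _ ((mem_rootSubgroup_iff hD r x).mpr ⟨t, hx'⟩))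
  exact h hu

include hD in
theorem closure_UnegSet_mul_diag (n h : GL D.Idx K) (hh : h ∈ D.diagonalSubgroup K) :
    Subgroup.closure (UnegSet D K (n * h)) = Subgroup.closure (UnegSet D K n) := by
  apply le_antisymm
  · exact Subgroup.closure_mono (UnegSet_mul_diag hD n h hh)
  · have h1 := UnegSet_mul_diag hD (n * h) h⁻¹ (inv_mem hh)
    have e : n * h * h⁻¹ = n := by group
    rw [e] at h1
    exact Subgroup.closure_mono h1

end Gen

section Fin

variable [Fintype K] (hD : D ∈ [chevG2, chevB2, chevD4, chevF4, chevE6, chevE7, chevE8]) (C : ChevData.{u} D)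
  (cfg : TwCfg) (φ : K ≃+* K) (hcfg : cfg.ok C.T C.tabs C.simples = true)

include hcfg in
/-- `B ∩ G¹ = (U ∩ G¹)(H ∩ G¹)`. -/
theorem borel_decomp (b : GL D.Idx K) (hb : b ∈ D.borelSubgroup K) (hbG : b ∈ Gtw hD C cfg φ) :
    ∃ u ∈ D.posUnipotent K ⊓ Gtw hD C cfg φ, ∃ h ∈ D.diagonalSubgroup K ⊓ Gtw hD C cfg φ, b = u * h := by
  obtain ⟨u₀, hu₀, n, hn, u, hu, hug, e⟩ := exists_Gtw_form hD C cfg φ hcfg b hbG
  have huU : u ∈ D.posUnipotent K := closure_UnegSet_le D n hu
  have hnB : n ∈ D.borelSubgroup K := by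
    have : n = u₀⁻¹ * b * u⁻¹ := by rw [e]; group
    rw [this]
    exact mul_mem (mul_mem (inv_mem (borel_of_posUnipotent _ hu₀.1)) hb) (inv_mem (borel_of_posUnipotent _ huU))
  have hnH : n ∈ D.diagonalSubgroup K := by
    rw [← (Cfsg.Agent.S1040.result D hD).2]
    exact Subgroup.mem_inf.mpr ⟨hnB, hn.1⟩
  have h1 : n * u * n⁻¹ ∈ D.posUnipotent K := borel_conj_mem hD n u hnB huU
  refine ⟨u₀ * (n * u * n⁻¹), Subgroup.mem_inf.mpr ⟨mul_mem hu₀.1 h1, ?_⟩, n, Subgroup.mem_inf.mpr ⟨hnH, hn.2⟩, ?_⟩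
  · exact mul_mem hu₀.2 (mul_mem (mul_mem hn.2 hug) (inv_mem hn.2))
  · rw [e]; group

end Fin

section Long

variable [Fintype K] (hD : D ∈ [chevG2, chevB2, chevD4, chevF4, chevE6, chevE7, chevE8]) (C : ChevData.{u} D)
  (cfg : TwCfg) (hcfg : cfg.ok C.T C.tabs C.simples = true)

theorem conj_closure_le {G : Type*} [Group G] (n : G) (S : Set G) (W : Subgroup G)
    (h : ∀ x ∈ S, n * x * n⁻¹ ∈ W) : ∀ u ∈ Subgroup.closure S, n * u * n⁻¹ ∈ W := by
  have hle : Subgroup.closure S ≤ W.comap (MulAut.conj n).toMonoidHom := by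
    rw [Subgroup.closure_le]
    intro x hx
    exact h x hx
  intro u hu
  exact hle hu

include hcfg in
/-- The longest element exchanges `U` and `V`. -/
theorem long_conj (cw₀ : List ℕ) (hlong : cfg.longOK C.T C.tabs cw₀ = true) :
    (∀ g : GL D.Idx K, g ∈ D.negUnipotent K ↔
      (nW hD C (cfg.wordOf cw₀))⁻¹ * g * nW hD C (cfg.wordOf cw₀) ∈ D.posUnipotent K) ∧
    (∀ g : GL D.Idx K, g ∈ D.posUnipotent K ↔
      (nW hD C (cfg.wordOf cw₀))⁻¹ * g * nW hD C (cfg.wordOf cw₀) ∈ D.negUnipotent K) := by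
  obtain ⟨hcw, hw₀⟩ := longOK_spec C cfg cw₀ hlong
  have hws : ∀ i ∈ cfg.wordOf cw₀, i < D.rank := wordOf_lt C cfg hcfg cw₀ hcw
  set n₀ := nW (F := K) hD C (cfg.wordOf cw₀) with hn₀def
  have hsign := signOK_of_mem D hD
  have hev := C.heven
  have hnr := C.nroots_eq
  have hUV : ∀ u ∈ D.posUnipotent K, n₀ * u * n₀⁻¹ ∈ D.negUnipotent K := by
    unfold ChevalleyDatum.posUnipotent
    apply conj_closure_le
    rintro x ⟨r, t, hr, hx⟩
    have : x = xG hD r t := eq_xG hD _ r t hx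
    rw [this, nW_conj_xG hD C _ hws r hr.1]
    have hpos := (isPosRoot_iff hD r).mp hr
    exact Subgroup.subset_closure ⟨_, _, isNegRoot_of_lt D hsign _ (wordRootF_lt C _ hws r hr.1)
      (hw₀ r hr.1 hpos.2), rfl⟩
  have hVU : ∀ v ∈ D.negUnipotent K, n₀ * v * n₀⁻¹ ∈ D.posUnipotent K := by
    unfold ChevalleyDatum.negUnipotent
    apply conj_closure_le
    rintro x ⟨s, t, hs, hx⟩
    have : x = xG hD s t := eq_xG hD _ s t hx
    rw [this, nW_conj_xG hD C _ hws s hs.1]
    have hs2 : s < D.nroots / 2 := (negOK_spec (negOK_of_mem D hD) s hs).1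
    have hneg : ∀ x, C.T.neg x = C.T.nroots - 1 - x := fun x => rfl
    obtain ⟨r, hr⟩ : ∃ r, r = C.T.neg s := ⟨_, rfl⟩
    have hr' := hr
    rw [hneg] at hr'
    have hrlt : r < D.nroots := by omega
    have hrge : D.nroots / 2 ≤ r := by omega
    have hnn : C.T.neg r = s := by rw [hneg]; omega
    have h1 := wordRootF_neg C _ hws r hrlt
    rw [hnn] at h1
    have h2 := hw₀ _ hrlt hrge
    have h3 := wordRootF_lt C _ hws s hs.1
    apply xG_mem_posUnipotent
    rw [isPosRoot_iff hD]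
    refine ⟨h3, ?_⟩
    rw [h1, hneg]
    omega
  -- cardinalities
  have hfin : Finite (GL D.Idx K) := inferInstance
  have hA : (D.posUnipotent K).map (MulAut.conj n₀).toMonoidHom ≤ D.negUnipotent K := by
    rintro x ⟨u, hu, rfl⟩
    exact hUV u hu
  have hB : (D.negUnipotent K).map (MulAut.conj n₀).toMonoidHom ≤ D.posUnipotent K := by
    rintro x ⟨v, hv, rfl⟩
    exact hVU v hv
  have cA : Nat.card ↥((D.posUnipotent K).map (MulAut.conj n₀).toMonoidHom) = Nat.card ↥(D.posUnipotent K) :=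
    Subgroup.card_map_of_injective (MulAut.conj n₀).injective
  have cB : Nat.card ↥((D.negUnipotent K).map (MulAut.conj n₀).toMonoidHom) = Nat.card ↥(D.negUnipotent K) :=
    Subgroup.card_map_of_injective (MulAut.conj n₀).injective
  have c1 := Subgroup.card_le_of_le hA
  have c2 := Subgroup.card_le_of_le hB
  rw [cA] at c1
  rw [cB] at c2
  have eA : (D.posUnipotent K).map (MulAut.conj n₀).toMonoidHom = D.negUnipotent K :=
    Subgroup.eq_of_le_of_card_ge hA (by rw [cA]; exact c2)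
  have eB : (D.negUnipotent K).map (MulAut.conj n₀).toMonoidHom = D.posUnipotent K :=
    Subgroup.eq_of_le_of_card_ge hB (by rw [cB]; exact c1)
  constructor
  · intro g
    constructor
    · intro hg
      rw [← eA] at hg
      obtain ⟨u, hu, rfl⟩ := hg
      have : n₀⁻¹ * (MulAut.conj n₀).toMonoidHom u * n₀ = u := by
        show n₀⁻¹ * (n₀ * u * n₀⁻¹) * n₀ = u
        group
      rw [this]
      exact hu
    · intro hg
      have := hUV _ hg
      have e : n₀ * (n₀⁻¹ * g * n₀) * n₀⁻¹ = g := by group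
      rwa [e] at this
  · intro g
    constructor
    · intro hg
      rw [← eB] at hg
      obtain ⟨v, hv, rfl⟩ := hg
      have : n₀⁻¹ * (MulAut.conj n₀).toMonoidHom v * n₀ = v := by
        show n₀⁻¹ * (n₀ * v * n₀⁻¹) * n₀ = v
        group
      rw [this]
      exact hv
    · intro hg
      have := hVU _ hg
      have e : n₀ * (n₀⁻¹ * g * n₀) * n₀⁻¹ = g := by group
      rwa [e] at this

end Long

end Cfsg.Agent.Lib.Helper91.TwOut
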