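/-
helper91: project TWOUT, the twisted group `³D₄` of helper18's machine: root elements of the two classes, the fixed
field, first facts.
-/
import Cfsg.Agent.Lib.Helper91.TwOut.Inst1
import Cfsg.Agent.Lib.Helper18.TwD4
import Cfsg.Agent.Lib.Helper18.TwBnD4

set_option autoImplicit false

namespace Cfsg.Agent.Lib.Helper91.TwOut

open Cfsg Cfsg.Lie Cfsg.Agent.Lib.Helper18 Cfsg.Agent.Lib.Helper17

universe u

variable {K : Type u} [Field K]

/-- The fixed field of `φ`. -/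
def fixField (φ : K ≃+* K) : Subfield K where
  carrier := {t | φ t = t}
  mul_mem' := by
    intro a b ha hb
    show φ (a * b) = a * b
    rw [map_mul, ha, hb]
  one_mem' := map_one φ
  add_mem' := by
    intro a b ha hb
    show φ (a + b) = a + b
    rw [map_add, ha, hb]
  zero_mem' := map_zero φ
  neg_mem' := by
    intro a ha
    show φ (-a) = -a
    rw [map_neg, ha]
  inv_mem' := by
    intro a ha
    show φ a⁻¹ = a⁻¹
    rw [map_inv₀, ha]

theorem mem_fixField (φ : K ≃+* K) (t : K) : t ∈ fixField φ ↔ φ t = t := Iff.rfl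

section D4

variable (φ : K ≃+* K)

/-- The twisted group `³D₄` of helper18's machine. -/
abbrev GD4 : Subgroup (GL chevD4.Idx K) := Gtw hD4 chevData_D4.{u} twCfg_D4 φ

/-- The root element of the class `{p₁, p₃, p₄}`. -/
noncomputable def xaG (t : K) : GL chevD4.Idx K := xG hD4 18 t * (xG hD4 13 (φ t) * xG hD4 12 (φ (φ t)))

/-- The root element of the class `{-p₁, -p₃, -p₄}`. -/
noncomputable def yaG (t : K) : GL chevD4.Idx K := xG hD4 5 t * (xG hD4 10 (φ t) * xG hD4 11 (φ (φ t)))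

theorem xaG_eq_prodL (t : K) :
    xaG φ t = prodL hD4 (twCfg_D4.g.orb 3 18) (orbVal twCfg_D4.g φ 18 t) := by
  have r18 : twCfg_D4.g.rho 18 = 13 := by decide
  have r13 : twCfg_D4.g.rho 13 = 12 := by decide
  have g18 : twCfg_D4.g.gam 18 = 1 := by decide
  have g13 : twCfg_D4.g.gam 13 = 1 := by decide
  rw [prodL_orbVal_three hD4 twCfg_D4.g φ 18 (by rw [r18]; decide) (by rw [r18, r13]; decide)
    (by rw [r18, r13]; decide) g18 (by rw [r18]; exact g13), r18, r13]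
  rfl

theorem yaG_eq_prodL (t : K) :
    yaG φ t = prodL hD4 (twCfg_D4.g.orb 3 5) (orbVal twCfg_D4.g φ 5 t) := by
  have r5 : twCfg_D4.g.rho 5 = 10 := by decide
  have r10 : twCfg_D4.g.rho 10 = 11 := by decide
  have g5 : twCfg_D4.g.gam 5 = 1 := by decide
  have g10 : twCfg_D4.g.gam 10 = 1 := by decide
  rw [prodL_orbVal_three hD4 twCfg_D4.g φ 5 (by rw [r5]; decide) (by rw [r5, r10]; decide)
    (by rw [r5, r10]; decide) g5 (by rw [r5]; exact g10), r5, r10]
  rfl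

variable (hφ3 : ∀ a : K, φ (φ (φ a)) = a)

include hφ3 in
theorem hφm_D4 : ∀ a : K, φ^[twCfg_D4.m] a = a := fun a => hφ3 a

theorem genRoots_D4 : twCfg_D4.genRoots chevData_D4.{u}.T = [14, 18, 9, 5] := by decide

include hφ3 in
theorem xaG_mem (t : K) : xaG φ t ∈ GD4 φ := by
  have hTw : twCfg_D4.g.twOK chevData_D4.{u}.T 3 = true := cfg_twOK chevData_D4 twCfg_D4 twCfg_D4_ok'
  apply Subgroup.subset_closure
  refine ⟨18, by rw [genRoots_D4]; simp, orbVal twCfg_D4.g φ 18 t, ?_, xaG_eq_prodL φ t⟩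
  exact orbVal_tw chevData_D4 twCfg_D4.g φ 3 hTw (Or.inr rfl) (hφm_D4 φ hφ3) 18 (by decide) t
    (fun h => absurd h (by decide))

include hφ3 in
theorem yaG_mem (t : K) : yaG φ t ∈ GD4 φ := by
  have hTw : twCfg_D4.g.twOK chevData_D4.{u}.T 3 = true := cfg_twOK chevData_D4 twCfg_D4 twCfg_D4_ok'
  apply Subgroup.subset_closure
  refine ⟨5, by rw [genRoots_D4]; simp, orbVal twCfg_D4.g φ 5 t, ?_, yaG_eq_prodL φ t⟩
  exact orbVal_tw chevData_D4 twCfg_D4.g φ 3 hTw (Or.inr rfl) (hφm_D4 φ hφ3) 5 (by decide) t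
    (fun h => absurd h (by decide))

include hφ3 in
theorem xbG_mem (u : K) (hu : φ u = u) : xG hD4 14 u ∈ GD4 φ := by
  have hTw : twCfg_D4.g.twOK chevData_D4.{u}.T 3 = true := cfg_twOK chevData_D4 twCfg_D4 twCfg_D4_ok'
  have r14 : twCfg_D4.g.rho 14 = 14 := by decide
  apply Subgroup.subset_closure
  refine ⟨14, by rw [genRoots_D4]; simp, orbVal twCfg_D4.g φ 14 u, ?_,
    (prodL_orbVal_fixed hD4 twCfg_D4.g φ 3 14 r14 u).symm⟩
  exact orbVal_tw chevData_D4 twCfg_D4.g φ 3 hTw (Or.inr rfl) (hφm_D4 φ hφ3) 14 (by decide) u (fun _ => hu)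

include hφ3 in
theorem ybG_mem (u : K) (hu : φ u = u) : xG hD4 9 u ∈ GD4 φ := by
  have hTw : twCfg_D4.g.twOK chevData_D4.{u}.T 3 = true := cfg_twOK chevData_D4 twCfg_D4 twCfg_D4_ok'
  have r9 : twCfg_D4.g.rho 9 = 9 := by decide
  apply Subgroup.subset_closure
  refine ⟨9, by rw [genRoots_D4]; simp, orbVal twCfg_D4.g φ 9 u, ?_,
    (prodL_orbVal_fixed hD4 twCfg_D4.g φ 3 9 r9 u).symm⟩
  exact orbVal_tw chevData_D4 twCfg_D4.g φ 3 hTw (Or.inr rfl) (hφm_D4 φ hφ3) 9 (by decide) u (fun _ => hu)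

end D4

end Cfsg.Agent.Lib.Helper91.TwOut
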