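/-
helper91: project TWOUT, `³D₄`: injectivity of the root elements and the orders of the root subgroups.
-/
import Cfsg.Agent.Lib.Helper91.TwOut.D4Defs
import Cfsg.Agent.Lib.Helper18.UFactTabs
import Cfsg.Agent.Lib.Helper18.TwFrob
import Cfsg.Agent.Lib.Helper18.Tw21

set_option autoImplicit false

namespace Cfsg.Agent.Lib.Helper91.TwOut

open Cfsg Cfsg.Lie Cfsg.Agent.Lib.Helper18 Cfsg.Agent.Lib.Helper17

universe u

variable {K : Type u} [Field K] (φ : K ≃+* K)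

theorem commE_D4 :
    ∀ j ∈ [0, 2, 3], ∀ j' ∈ [0, 2, 3], j ≠ j' →
      TwCfg.commE chevData_D4.{u}.T (chevData_D4.{u}.simples.getD j 0) (chevData_D4.{u}.simples.getD j' 0) = true ∧
      TwCfg.commE chevData_D4.{u}.T (chevData_D4.{u}.T.neg (chevData_D4.{u}.simples.getD j 0))
        (chevData_D4.{u}.T.neg (chevData_D4.{u}.simples.getD j' 0)) = true := by
  obtain ⟨-, -, -, -, -, -, -, -, hcm⟩ := classOK_spec chevData_D4.{u} twCfg_D4 twCfg_D4_ok' 1 (by decide)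
  intro j hj j' hj' hne
  exact ⟨(hcm j hj j' hj' hne).1, (hcm j hj j' hj' hne).2.2.2⟩

theorem comm_18_13 (a b : K) : Commute (xG hD4 18 a) (xG hD4 13 b) :=
  commE_commute hD4 chevData_D4.{u} 18 13 (commE_D4 0 (by decide) 2 (by decide) (by decide)).1 a b

theorem comm_18_12 (a b : K) : Commute (xG hD4 18 a) (xG hD4 12 b) :=
  commE_commute hD4 chevData_D4.{u} 18 12 (commE_D4 0 (by decide) 3 (by decide) (by decide)).1 a b

theorem comm_13_12 (a b : K) : Commute (xG hD4 13 a) (xG hD4 12 b) :=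
  commE_commute hD4 chevData_D4.{u} 13 12 (commE_D4 2 (by decide) 3 (by decide) (by decide)).1 a b

theorem comm_5_10 (a b : K) : Commute (xG hD4 5 a) (xG hD4 10 b) :=
  commE_commute hD4 chevData_D4.{u} 5 10 (commE_D4 0 (by decide) 2 (by decide) (by decide)).2 a b

theorem comm_5_11 (a b : K) : Commute (xG hD4 5 a) (xG hD4 11 b) :=
  commE_commute hD4 chevData_D4.{u} 5 11 (commE_D4 0 (by decide) 3 (by decide) (by decide)).2 a b

theorem comm_10_11 (a b : K) : Commute (xG hD4 10 a) (xG hD4 11 b) :=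
  commE_commute hD4 chevData_D4.{u} 10 11 (commE_D4 2 (by decide) 3 (by decide) (by decide)).2 a b

/-- `x_a` is additive. -/
theorem xaG_add (s t : K) : xaG φ s * xaG φ t = xaG φ (s + t) := by
  unfold xaG
  simp only [map_add]
  rw [← xG_mul, ← xG_mul, ← xG_mul]
  have c1 := comm_18_13 (K := K)
  have c2 := comm_18_12 (K := K)
  have c3 := comm_13_12 (K := K)
  calc xG hD4 18 s * (xG hD4 13 (φ s) * xG hD4 12 (φ (φ s))) * (xG hD4 18 t * (xG hD4 13 (φ t) * xG hD4 12 (φ (φ t))))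
      = xG hD4 18 s * (xG hD4 13 (φ s) * (xG hD4 12 (φ (φ s)) * xG hD4 18 t)) * (xG hD4 13 (φ t) * xG hD4 12 (φ (φ t))) := by
        group
    _ = xG hD4 18 s * (xG hD4 13 (φ s) * (xG hD4 18 t * xG hD4 12 (φ (φ s)))) * (xG hD4 13 (φ t) * xG hD4 12 (φ (φ t))) := by
        rw [(c2 t (φ (φ s))).eq]
    _ = xG hD4 18 s * ((xG hD4 13 (φ s) * xG hD4 18 t) * xG hD4 12 (φ (φ s))) * (xG hD4 13 (φ t) * xG hD4 12 (φ (φ t))) := by
        group
    _ = xG hD4 18 s * ((xG hD4 18 t * xG hD4 13 (φ s)) * xG hD4 12 (φ (φ s))) * (xG hD4 13 (φ t) * xG hD4 12 (φ (φ t))) := by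
        rw [(c1 t (φ s)).eq]
    _ = xG hD4 18 s * xG hD4 18 t * (xG hD4 13 (φ s) * ((xG hD4 12 (φ (φ s)) * xG hD4 13 (φ t)) * xG hD4 12 (φ (φ t)))) := by
        group
    _ = xG hD4 18 s * xG hD4 18 t * (xG hD4 13 (φ s) * ((xG hD4 13 (φ t) * xG hD4 12 (φ (φ s))) * xG hD4 12 (φ (φ t)))) := by
        rw [(c3 (φ t) (φ (φ s))).eq]
    _ = xG hD4 18 s * xG hD4 18 t * (xG hD4 13 (φ s) * xG hD4 13 (φ t) * (xG hD4 12 (φ (φ s)) * xG hD4 12 (φ (φ t)))) := by
        group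

/-- `y_a` is additive. -/
theorem yaG_add (s t : K) : yaG φ s * yaG φ t = yaG φ (s + t) := by
  unfold yaG
  simp only [map_add]
  rw [← xG_mul, ← xG_mul, ← xG_mul]
  have c1 := comm_5_10 (K := K)
  have c2 := comm_5_11 (K := K)
  have c3 := comm_10_11 (K := K)
  calc xG hD4 5 s * (xG hD4 10 (φ s) * xG hD4 11 (φ (φ s))) * (xG hD4 5 t * (xG hD4 10 (φ t) * xG hD4 11 (φ (φ t))))
      = xG hD4 5 s * (xG hD4 10 (φ s) * (xG hD4 11 (φ (φ s)) * xG hD4 5 t)) * (xG hD4 10 (φ t) * xG hD4 11 (φ (φ t))) := by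
        group
    _ = xG hD4 5 s * (xG hD4 10 (φ s) * (xG hD4 5 t * xG hD4 11 (φ (φ s)))) * (xG hD4 10 (φ t) * xG hD4 11 (φ (φ t))) := by
        rw [(c2 t (φ (φ s))).eq]
    _ = xG hD4 5 s * ((xG hD4 10 (φ s) * xG hD4 5 t) * xG hD4 11 (φ (φ s))) * (xG hD4 10 (φ t) * xG hD4 11 (φ (φ t))) := by
        group
    _ = xG hD4 5 s * ((xG hD4 5 t * xG hD4 10 (φ s)) * xG hD4 11 (φ (φ s))) * (xG hD4 10 (φ t) * xG hD4 11 (φ (φ t))) := by
        rw [(c1 t (φ s)).eq]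
    _ = xG hD4 5 s * xG hD4 5 t * (xG hD4 10 (φ s) * ((xG hD4 11 (φ (φ s)) * xG hD4 10 (φ t)) * xG hD4 11 (φ (φ t)))) := by
        group
    _ = xG hD4 5 s * xG hD4 5 t * (xG hD4 10 (φ s) * ((xG hD4 10 (φ t) * xG hD4 11 (φ (φ s))) * xG hD4 11 (φ (φ t)))) := by
        rw [(c3 (φ t) (φ (φ s))).eq]
    _ = xG hD4 5 s * xG hD4 5 t * (xG hD4 10 (φ s) * xG hD4 10 (φ t) * (xG hD4 11 (φ (φ s)) * xG hD4 11 (φ (φ t)))) := by
        group

theorem xaG_zero : xaG φ 0 = 1 := by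
  unfold xaG
  rw [map_zero, map_zero, xG_zero, xG_zero, xG_zero, mul_one, mul_one]

theorem yaG_zero : yaG φ 0 = 1 := by
  unfold yaG
  rw [map_zero, map_zero, xG_zero, xG_zero, xG_zero, mul_one, mul_one]

/-- The coefficient function of `x_a(t)` on the increasing list `[12, 13, 18]`. -/
def cfA (t : K) (r : ℕ) : K := if r = 18 then t else if r = 13 then φ t else φ (φ t)

theorem xaG_eq_sorted (t : K) : xaG φ t = prodL hD4 [12, 13, 18] (cfA φ t) := by
  rw [prodL_cons, prodL_cons, prodL_cons, prodL_nil, mul_one]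
  have e1 : cfA φ t 12 = φ (φ t) := by unfold cfA; rw [if_neg (by decide), if_neg (by decide)]
  have e2 : cfA φ t 13 = φ t := by unfold cfA; rw [if_neg (by decide), if_pos rfl]
  have e3 : cfA φ t 18 = t := by unfold cfA; rw [if_pos rfl]
  rw [e1, e2, e3]
  unfold xaG
  have c1 := comm_18_13 (K := K) t (φ t)
  have c2 := comm_18_12 (K := K) t (φ (φ t))
  have c3 := comm_13_12 (K := K) (φ t) (φ (φ t))
  calc xG hD4 18 t * (xG hD4 13 (φ t) * xG hD4 12 (φ (φ t)))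
      = xG hD4 18 t * (xG hD4 12 (φ (φ t)) * xG hD4 13 (φ t)) := by rw [c3.eq]
    _ = (xG hD4 18 t * xG hD4 12 (φ (φ t))) * xG hD4 13 (φ t) := by group
    _ = (xG hD4 12 (φ (φ t)) * xG hD4 18 t) * xG hD4 13 (φ t) := by rw [c2.eq]
    _ = xG hD4 12 (φ (φ t)) * (xG hD4 18 t * xG hD4 13 (φ t)) := by group
    _ = xG hD4 12 (φ (φ t)) * (xG hD4 13 (φ t) * xG hD4 18 t) := by rw [c1.eq]

theorem xaG_injective : Function.Injective (xaG φ) := by
  intro t t' h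
  rw [xaG_eq_sorted, xaG_eq_sorted] at h
  have hl : ∀ r ∈ [12, 13, 18], chevD4.IsPosRoot r := by
    intro r hr
    rw [isPosRoot_iff hD4]
    simp only [List.mem_cons, List.not_mem_nil, or_false] at hr
    rcases hr with rfl | rfl | rfl <;> decide
  have := prodL_injective hD4 (lexOK_of_mem chevD4 hD4) (bezOK_of_mem chevD4 hD4) [12, 13, 18] hl
    (by decide) (cfA φ t) (cfA φ t') h 18 (by simp)
  unfold cfA at this
  rwa [if_pos rfl, if_pos rfl] at this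

section Card

variable [Fintype K]

/-- `|{x_a(t)}| = |K|`. -/
theorem card_setOf_xaG : Nat.card {g : GL chevD4.Idx K // ∃ t : K, g = xaG φ t} = Fintype.card K := by
  rw [← Nat.card_eq_fintype_card]
  symm
  apply Nat.card_congr
  refine Equiv.ofBijective (fun t => ⟨xaG φ t, t, rfl⟩) ⟨?_, ?_⟩
  · intro a b h
    exact xaG_injective φ (congrArg Subtype.val h)
  · rintro ⟨g, t, rfl⟩
    exact ⟨t, rfl⟩

/-- `|{x_b(u) | φ u = u}| = q`. -/
theorem card_setOf_xb (q : ℕ) (hq : 2 ≤ q) (hφ : ∀ t : K, φ t = t ^ q) (hK : Fintype.card K = q ^ 3) :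
    Nat.card {g : GL chevD4.Idx K // ∃ u : K, φ u = u ∧ g = xG hD4 14 u} = q := by
  rw [← card_fixed_pow hq hK]
  symm
  apply Nat.card_congr
  refine Equiv.ofBijective (fun a => ⟨xG hD4 14 a.1, a.1, by rw [hφ]; exact a.2, rfl⟩) ⟨?_, ?_⟩
  · intro a b h
    apply Subtype.ext
    exact Cfsg.Agent.Lib.Helper18.xG_injective hD4 14 (by decide) _ _ (congrArg Subtype.val h)
  · rintro ⟨g, u, hu, rfl⟩
    exact ⟨⟨u, by rw [← hφ]; exact hu⟩, rfl⟩

end Card

end Cfsg.Agent.Lib.Helper91.TwOut
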