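/-
helper91: project TWOUT, `³D₄`: the action of `n_a`, `n_b`, the longest element and the torus element `h_b(u)` on the
root elements.
-/
import Cfsg.Agent.Lib.Helper91.TwOut.D4Defs
import Cfsg.Agent.Lib.Helper18.Tw16

set_option autoImplicit false

namespace Cfsg.Agent.Lib.Helper91.TwOut

open Cfsg Cfsg.Lie Cfsg.Agent.Lib.Helper18 Cfsg.Agent.Lib.Helper17

universe u

variable {K : Type u} [Field K]

/-- `n_a`, the generator of the class `{p₁, p₃, p₄}`. -/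
noncomputable def nA : GL chevD4.Idx K := nW hD4 chevData_D4.{u} [0, 2, 3]

/-- `n_b`, the generator of the class `{p₂}`. -/
noncomputable def nB : GL chevD4.Idx K := nW hD4 chevData_D4.{u} [1]

/-- The longest element. -/
noncomputable def nL : GL chevD4.Idx K := nW hD4 chevData_D4.{u} (twCfg_D4.wordOf [0, 1, 0, 1, 0, 1])

theorem conj_mul3 {G : Type*} [Group G] (n a b c : G) :
    n * (a * (b * c)) * n⁻¹ = (n * a * n⁻¹) * ((n * b * n⁻¹) * (n * c * n⁻¹)) := by group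

variable (φ : K ≃+* K)

theorem nA_conj_xaG (t : K) : nA * xaG φ t * (nA : GL chevD4.Idx K)⁻¹ = yaG φ (-t) := by
  have hws : ∀ i ∈ [0, 2, 3], i < chevD4.rank := by decide
  unfold nA xaG yaG
  rw [conj_mul3, nW_conj_xG hD4 chevData_D4.{u} _ hws 18 (by decide), nW_conj_xG hD4 chevData_D4.{u} _ hws 13 (by decide),
    nW_conj_xG hD4 chevData_D4.{u} _ hws 12 (by decide)]
  have r1 : wordRootF chevData_D4.{u}.tabs [0, 2, 3] 18 = 5 := by decide
  have r2 : wordRootF chevData_D4.{u}.tabs [0, 2, 3] 13 = 10 := by decide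
  have r3 : wordRootF chevData_D4.{u}.tabs [0, 2, 3] 12 = 11 := by decide
  have s1 : wordSignF chevData_D4.{u}.tabs [0, 2, 3] 18 = -1 := by decide
  have s2 : wordSignF chevData_D4.{u}.tabs [0, 2, 3] 13 = -1 := by decide
  have s3 : wordSignF chevData_D4.{u}.tabs [0, 2, 3] 12 = -1 := by decide
  rw [r1, r2, r3, s1, s2, s3]
  simp only [Int.cast_neg, Int.cast_one, neg_mul, one_mul, map_neg]

theorem nB_conj_xb (u : K) : nB * xG hD4 14 u * (nB : GL chevD4.Idx K)⁻¹ = xG hD4 9 (-u) := by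
  have hws : ∀ i ∈ [1], i < chevD4.rank := by decide
  unfold nB
  rw [nW_conj_xG hD4 chevData_D4.{u} _ hws 14 (by decide)]
  have r1 : wordRootF chevData_D4.{u}.tabs [1] 14 = 9 := by decide
  have s1 : wordSignF chevData_D4.{u}.tabs [1] 14 = -1 := by decide
  rw [r1, s1]
  simp only [Int.cast_neg, Int.cast_one, neg_mul, one_mul]

theorem wordOf_long : twCfg_D4.wordOf [0, 1, 0, 1, 0, 1] = [1, 0, 2, 3, 1, 0, 2, 3, 1, 0, 2, 3] := by decide

theorem nL_conj_yaG (t : K) : nL * yaG φ t * (nL : GL chevD4.Idx K)⁻¹ = xaG φ (-t) := by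
  have hws : ∀ i ∈ [1, 0, 2, 3, 1, 0, 2, 3, 1, 0, 2, 3], i < chevD4.rank := by decide
  unfold nL xaG yaG
  rw [wordOf_long, conj_mul3, nW_conj_xG hD4 chevData_D4.{u} _ hws 5 (by decide),
    nW_conj_xG hD4 chevData_D4.{u} _ hws 10 (by decide), nW_conj_xG hD4 chevData_D4.{u} _ hws 11 (by decide)]
  have r1 : wordRootF chevData_D4.{u}.tabs [1, 0, 2, 3, 1, 0, 2, 3, 1, 0, 2, 3] 5 = 18 := by decide
  have r2 : wordRootF chevData_D4.{u}.tabs [1, 0, 2, 3, 1, 0, 2, 3, 1, 0, 2, 3] 10 = 13 := by decide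
  have r3 : wordRootF chevData_D4.{u}.tabs [1, 0, 2, 3, 1, 0, 2, 3, 1, 0, 2, 3] 11 = 12 := by decide
  have s1 : wordSignF chevData_D4.{u}.tabs [1, 0, 2, 3, 1, 0, 2, 3, 1, 0, 2, 3] 5 = -1 := by decide
  have s2 : wordSignF chevData_D4.{u}.tabs [1, 0, 2, 3, 1, 0, 2, 3, 1, 0, 2, 3] 10 = -1 := by decide
  have s3 : wordSignF chevData_D4.{u}.tabs [1, 0, 2, 3, 1, 0, 2, 3, 1, 0, 2, 3] 11 = -1 := by decide
  rw [r1, r2, r3, s1, s2, s3]
  simp only [Int.cast_neg, Int.cast_one, neg_mul, one_mul, map_neg]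

theorem nL_conj_yb (u : K) : nL * xG hD4 9 u * (nL : GL chevD4.Idx K)⁻¹ = xG hD4 14 (-u) := by
  have hws : ∀ i ∈ [1, 0, 2, 3, 1, 0, 2, 3, 1, 0, 2, 3], i < chevD4.rank := by decide
  unfold nL
  rw [wordOf_long, nW_conj_xG hD4 chevData_D4.{u} _ hws 9 (by decide)]
  have r1 : wordRootF chevData_D4.{u}.tabs [1, 0, 2, 3, 1, 0, 2, 3, 1, 0, 2, 3] 9 = 14 := by decide
  have s1 : wordSignF chevData_D4.{u}.tabs [1, 0, 2, 3, 1, 0, 2, 3, 1, 0, 2, 3] 9 = -1 := by decide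
  rw [r1, s1]
  simp only [Int.cast_neg, Int.cast_one, neg_mul, one_mul]

/-- `h_b(u)` acts on `x_a(s)` by `u⁻¹`. -/
theorem hb_conj_xaG (u : K) (hu : φ u = u) (hu0 : u ≠ 0) (s : K) :
    hPt hD4 chevData_D4.{u} 1 u * xaG φ s * (hPt hD4 chevData_D4.{u} 1 u)⁻¹ = xaG φ (u⁻¹ * s) := by
  unfold xaG
  rw [conj_mul3, hPt_conj_xG hD4 chevData_D4.{u} 1 (by decide) u hu0 18 (by decide),
    hPt_conj_xG hD4 chevData_D4.{u} 1 (by decide) u hu0 13 (by decide),
    hPt_conj_xG hD4 chevData_D4.{u} 1 (by decide) u hu0 12 (by decide)]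
  have c1 : chevD4.cartan 1 18 = -1 := by decide
  have c2 : chevD4.cartan 1 13 = -1 := by decide
  have c3 : chevD4.cartan 1 12 = -1 := by decide
  rw [c1, c2, c3]
  simp only [zpow_neg, zpow_one, map_mul, map_inv₀, hu]

end Cfsg.Agent.Lib.Helper91.TwOut
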