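/-
helper91: project TWOUT, the twisted group `³D₄` as an instance of `SplitBN`.
-/
import Cfsg.Agent.Lib.Helper91.TwOut.D4Conj
import Cfsg.Agent.Lib.Helper91.TwOut.D4Card
import Cfsg.Agent.Lib.Helper18.TwCore

set_option autoImplicit false
set_option linter.unusedSectionVars false

namespace Cfsg.Agent.Lib.Helper91.TwOut

open Cfsg Cfsg.Lie Cfsg.Agent.Lib.Helper18 Cfsg.Agent.Lib.Helper17

universe u

variable {K : Type u} [Field K] [Fintype K] (φ : K ≃+* K)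

/-- `U¹`. -/
def UD4 : Subgroup ↥(GD4 φ) := (chevD4.posUnipotent K).subgroupOf (GD4 φ)

/-- `V¹`. -/
def VD4 : Subgroup ↥(GD4 φ) := (chevD4.negUnipotent K).subgroupOf (GD4 φ)

/-- `U_n^- ∩ G¹`. -/
def UmD4 (n : ↥(GD4 φ)) : Subgroup ↥(GD4 φ) :=
  (Subgroup.closure (UnegSet chevD4 K (n : GL chevD4.Idx K))).subgroupOf (GD4 φ)

theorem nA_mem : (nA : GL chevD4.Idx K) ∈ GD4 φ :=
  nW_class_mem_Gtw hD4 chevData_D4.{u} twCfg_D4 φ twCfg_D4_ok' 1 (by decide)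

theorem nB_mem : (nB : GL chevD4.Idx K) ∈ GD4 φ :=
  nW_class_mem_Gtw hD4 chevData_D4.{u} twCfg_D4 φ twCfg_D4_ok' 0 (by decide)

theorem nL_mem : (nL : GL chevD4.Idx K) ∈ GD4 φ :=
  nW_wordOf_mem_Gtw hD4 chevData_D4.{u} twCfg_D4 φ twCfg_D4_ok' [0, 1, 0, 1, 0, 1] (by decide)

/-- The generators `n_a`, `n_b`. -/
noncomputable def sD4 (i : Fin 2) : ↥(GD4 φ) := if i = 0 then ⟨nA, nA_mem φ⟩ else ⟨nB, nB_mem φ⟩

/-- The longest element. -/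
noncomputable def n0D4 : ↥(GD4 φ) := ⟨nL, nL_mem φ⟩

/-- The positive fundamental root subgroups. -/
noncomputable def XD4 (i : Fin 2) : Subgroup ↥(GD4 φ) := UmD4 φ (sD4 φ i)

/-- The negative fundamental root subgroups. -/
noncomputable def YD4 (i : Fin 2) : Subgroup ↥(GD4 φ) := (XD4 φ i).map (MulAut.conj (sD4 φ i)).toMonoidHom

theorem mem_UD4 (g : ↥(GD4 φ)) : g ∈ UD4 φ ↔ (g : GL chevD4.Idx K) ∈ chevD4.posUnipotent K :=
  Subgroup.mem_subgroupOf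

theorem mem_VD4 (g : ↥(GD4 φ)) : g ∈ VD4 φ ↔ (g : GL chevD4.Idx K) ∈ chevD4.negUnipotent K :=
  Subgroup.mem_subgroupOf

theorem mem_UmD4 (n g : ↥(GD4 φ)) :
    g ∈ UmD4 φ n ↔ (g : GL chevD4.Idx K) ∈ Subgroup.closure (UnegSet chevD4 K (n : GL chevD4.Idx K)) :=
  Subgroup.mem_subgroupOf

theorem mem_YD4 (i : Fin 2) (g : ↥(GD4 φ)) : g ∈ YD4 φ i ↔ (sD4 φ i)⁻¹ * g * sD4 φ i ∈ XD4 φ i := by
  unfold YD4
  rw [Subgroup.mem_map]
  constructor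
  · rintro ⟨x, hx, rfl⟩
    have : (sD4 φ i)⁻¹ * (MulAut.conj (sD4 φ i)).toMonoidHom x * sD4 φ i = x := by
      show (sD4 φ i)⁻¹ * (sD4 φ i * x * (sD4 φ i)⁻¹) * sD4 φ i = x
      group
    rwa [this]
  · intro h
    refine ⟨_, h, ?_⟩
    show sD4 φ i * ((sD4 φ i)⁻¹ * g * sD4 φ i) * (sD4 φ i)⁻¹ = g
    group

section Concrete

variable (hXA : ∀ g : GL chevD4.Idx K,
    (g ∈ Subgroup.closure (UnegSet chevD4 K (nW hD4 chevData_D4.{u} [0, 2, 3])) ∧ g ∈ GD4 φ) ↔ ∃ t : K, g = xaG φ t)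
  (hXB : ∀ g : GL chevD4.Idx K,
    (g ∈ Subgroup.closure (UnegSet chevD4 K (nW hD4 chevData_D4.{u} [1])) ∧ g ∈ GD4 φ) ↔
      ∃ u : K, φ u = u ∧ g = xG hD4 14 u)

include hXA in
theorem mem_XD4_zero (g : ↥(GD4 φ)) : g ∈ XD4 φ 0 ↔ ∃ t : K, (g : GL chevD4.Idx K) = xaG φ t := by
  unfold XD4
  rw [mem_UmD4]
  have e : ((sD4 φ 0 : ↥(GD4 φ)) : GL chevD4.Idx K) = nW hD4 chevData_D4.{u} [0, 2, 3] := by
    unfold sD4
    rw [if_pos rfl]
    rfl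
  rw [e, ← hXA]
  exact ⟨fun h => ⟨h, g.2⟩, fun h => h.1⟩

include hXB in
theorem mem_XD4_one (g : ↥(GD4 φ)) :
    g ∈ XD4 φ 1 ↔ ∃ u : K, φ u = u ∧ (g : GL chevD4.Idx K) = xG hD4 14 u := by
  unfold XD4
  rw [mem_UmD4]
  have e : ((sD4 φ 1 : ↥(GD4 φ)) : GL chevD4.Idx K) = nW hD4 chevData_D4.{u} [1] := by
    unfold sD4
    rw [if_neg (by decide)]
    rfl
  rw [e, ← hXB]
  exact ⟨fun h => ⟨h, g.2⟩, fun h => h.1⟩

include hXA in
theorem mem_YD4_zero (g : ↥(GD4 φ)) : g ∈ YD4 φ 0 ↔ ∃ t : K, (g : GL chevD4.Idx K) = yaG φ t := by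
  rw [mem_YD4, mem_XD4_zero φ hXA]
  have e : ((sD4 φ 0 : ↥(GD4 φ)) : GL chevD4.Idx K) = nA := by
    unfold sD4
    rw [if_pos rfl]
  have e2 : (((sD4 φ 0)⁻¹ * g * sD4 φ 0 : ↥(GD4 φ)) : GL chevD4.Idx K) = nA⁻¹ * (g : GL chevD4.Idx K) * nA := by
    rw [Subgroup.coe_mul, Subgroup.coe_mul, Subgroup.coe_inv, e]
  rw [e2]
  constructor
  · rintro ⟨t, ht⟩
    refine ⟨-t, ?_⟩
    rw [← nA_conj_xaG, ← ht]
    group
  · rintro ⟨t, ht⟩
    refine ⟨-t, ?_⟩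
    have := nA_conj_xaG φ (-t)
    rw [neg_neg] at this
    rw [ht, ← this]
    group

include hXB in
theorem mem_YD4_one (g : ↥(GD4 φ)) :
    g ∈ YD4 φ 1 ↔ ∃ u : K, φ u = u ∧ (g : GL chevD4.Idx K) = xG hD4 9 u := by
  rw [mem_YD4, mem_XD4_one φ hXB]
  have e : ((sD4 φ 1 : ↥(GD4 φ)) : GL chevD4.Idx K) = nB := by
    unfold sD4
    rw [if_neg (by decide)]
  have e2 : (((sD4 φ 1)⁻¹ * g * sD4 φ 1 : ↥(GD4 φ)) : GL chevD4.Idx K) = nB⁻¹ * (g : GL chevD4.Idx K) * nB := by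
    rw [Subgroup.coe_mul, Subgroup.coe_mul, Subgroup.coe_inv, e]
  rw [e2]
  constructor
  · rintro ⟨u, hu, ht⟩
    refine ⟨-u, by rw [map_neg, hu], ?_⟩
    rw [← nB_conj_xb, ← ht]
    group
  · rintro ⟨u, hu, ht⟩
    refine ⟨-u, by rw [map_neg, hu], ?_⟩
    have := nB_conj_xb (K := K) (-u)
    rw [neg_neg] at this
    rw [ht, ← this]
    group

include hXA hXB in
/-- `X_i = n₀ Y_i n₀⁻¹`. -/
theorem mem_XD4_iff_long (i : Fin 2) (g : ↥(GD4 φ)) :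
    g ∈ XD4 φ i ↔ (n0D4 φ)⁻¹ * g * n0D4 φ ∈ YD4 φ i := by
  have e2 : (((n0D4 φ)⁻¹ * g * n0D4 φ : ↥(GD4 φ)) : GL chevD4.Idx K) = nL⁻¹ * (g : GL chevD4.Idx K) * nL := by
    rw [Subgroup.coe_mul, Subgroup.coe_mul, Subgroup.coe_inv]
    rfl
  fin_cases i
  · show g ∈ XD4 φ 0 ↔ (n0D4 φ)⁻¹ * g * n0D4 φ ∈ YD4 φ 0
    rw [mem_XD4_zero φ hXA, mem_YD4_zero φ hXA, e2]
    constructor
    · rintro ⟨t, ht⟩
      refine ⟨-t, ?_⟩
      have := nL_conj_yaG φ (-t)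
      rw [neg_neg] at this
      rw [ht, ← this]
      group
    · rintro ⟨t, ht⟩
      refine ⟨-t, ?_⟩
      rw [← nL_conj_yaG, ← ht]
      group
  · show g ∈ XD4 φ 1 ↔ (n0D4 φ)⁻¹ * g * n0D4 φ ∈ YD4 φ 1
    rw [mem_XD4_one φ hXB, mem_YD4_one φ hXB, e2]
    constructor
    · rintro ⟨u, hu, ht⟩
      refine ⟨-u, by rw [map_neg, hu], ?_⟩
      have := nL_conj_yb (K := K) (-u)
      rw [neg_neg] at this
      rw [ht, ← this]
      group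
    · rintro ⟨u, hu, ht⟩
      refine ⟨-u, by rw [map_neg, hu], ?_⟩
      rw [← nL_conj_yb, ← ht]
      group

end Concrete

section Split

variable (p f : ℕ) (P : Cfsg.BNPair ↥(GD4 φ))
  (hPB : P.B = (chevD4.borelSubgroup K ⊓ GD4 φ).subgroupOf (GD4 φ))
  (hPN : P.N = (chevD4.monomialSubgroup K ⊓ GD4 φ).subgroupOf (GD4 φ))
  (hPS : P.S = {s : ↥(GD4 φ) | ∃ k < twCfg_D4.classes.length,
    (s : GL chevD4.Idx K) = nW hD4 chevData_D4.{u} (twCfg_D4.classes.getD k [])})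
  (hsyl : IsPGroup p ↥(UD4 φ) ∧ ¬ p ∣ (UD4 φ).index)
  (hXA : ∀ g : GL chevD4.Idx K,
    (g ∈ Subgroup.closure (UnegSet chevD4 K (nW hD4 chevData_D4.{u} [0, 2, 3])) ∧ g ∈ GD4 φ) ↔ ∃ t : K, g = xaG φ t)
  (hXB : ∀ g : GL chevD4.Idx K,
    (g ∈ Subgroup.closure (UnegSet chevD4 K (nW hD4 chevData_D4.{u} [1])) ∧ g ∈ GD4 φ) ↔
      ∃ u : K, φ u = u ∧ g = xG hD4 14 u)
  (hφ : ∀ t : K, φ t = t ^ (p ^ f)) (hK : Fintype.card K = (p ^ f) ^ 3) (hf : 1 ≤ f) (hp : 2 ≤ p)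

include hPB in
theorem mem_PB (x : ↥(GD4 φ)) : x ∈ P.B ↔ (x : GL chevD4.Idx K) ∈ chevD4.borelSubgroup K := by
  rw [hPB, Subgroup.mem_subgroupOf, Subgroup.mem_inf]
  exact ⟨fun h => h.1, fun h => ⟨h, x.2⟩⟩

include hPN in
theorem mem_PN (x : ↥(GD4 φ)) : x ∈ P.N ↔ (x : GL chevD4.Idx K) ∈ chevD4.monomialSubgroup K := by
  rw [hPN, Subgroup.mem_subgroupOf, Subgroup.mem_inf]
  exact ⟨fun h => h.1, fun h => ⟨h, x.2⟩⟩

include hPB hPN in
theorem mem_PH (x : ↥(GD4 φ)) : x ∈ P.B ⊓ P.N ↔ (x : GL chevD4.Idx K) ∈ chevD4.diagonalSubgroup K := by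
  rw [Subgroup.mem_inf, mem_PB φ P hPB, mem_PN φ P hPN, ← (Cfsg.Agent.S1040.result chevD4 hD4).2, Subgroup.mem_inf]

include hφ hK in
theorem phi_cube (a : K) : φ (φ (φ a)) = a := by
  rw [hφ, hφ, hφ, ← pow_mul, ← pow_mul]
  have := pow_card_pow_eq hK a
  have e : p ^ f * (p ^ f * p ^ f) = (p ^ f) ^ 3 := by ring
  rw [e]
  exact this

include hXA hφ hK in
theorem card_XD4_zero : Nat.card ↥(XD4 φ 0) = p ^ (3 * f) := by
  have hφ3 := phi_cube φ p f hφ hK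
  have e : ↥(XD4 φ 0) ≃ {g : GL chevD4.Idx K // ∃ t : K, g = xaG φ t} :=
    { toFun := fun x => ⟨((x : ↥(GD4 φ)) : GL chevD4.Idx K), (mem_XD4_zero φ hXA x.1).mp x.2⟩
      invFun := fun y => ⟨⟨y.1, by obtain ⟨t, ht⟩ := y.2; rw [ht]; exact xaG_mem φ hφ3 t⟩,
        (mem_XD4_zero φ hXA _).mpr y.2⟩
      left_inv := fun x => rfl
      right_inv := fun y => rfl }
  rw [Nat.card_congr e, card_setOf_xaG, hK, ← pow_mul, mul_comm]

include hXB hφ hK hf hp in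
theorem card_XD4_one : Nat.card ↥(XD4 φ 1) = p ^ f := by
  have hφ3 := phi_cube φ p f hφ hK
  have hq : 2 ≤ p ^ f := by
    calc 2 ≤ p := hp
      _ = p ^ 1 := (pow_one p).symm
      _ ≤ p ^ f := Nat.pow_le_pow_right (by omega) hf
  have e : ↥(XD4 φ 1) ≃ {g : GL chevD4.Idx K // ∃ u : K, φ u = u ∧ g = xG hD4 14 u} :=
    { toFun := fun x => ⟨((x : ↥(GD4 φ)) : GL chevD4.Idx K), (mem_XD4_one φ hXB x.1).mp x.2⟩
      invFun := fun y => ⟨⟨y.1, by obtain ⟨u, hu, ht⟩ := y.2; rw [ht]; exact xbG_mem φ hφ3 u hu⟩,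
        (mem_XD4_one φ hXB _).mpr y.2⟩
      left_inv := fun x => rfl
      right_inv := fun y => rfl }
  rw [Nat.card_congr e, card_setOf_xb φ (p ^ f) hq hφ hK]

include hPB hPN hPS hsyl hXA hXB hφ hK hf hp in
/-- The twisted group `³D₄` as a split (B,N)-pair with root subgroups. -/
noncomputable def splitD4 : SplitBN ↥(GD4 φ) (Fin 2) p where
  P := P
  U := UD4 φ
  V := VD4 φ
  Um := UmD4 φ
  s := sD4 φ
  X := XD4 φ
  Y := YD4 φ
  e := fun i => if i = 0 then 3 * f else f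
  n₀ := n0D4 φ
  op := 1
  S_eq := by
    rw [hPS]
    ext x
    simp only [Set.mem_ofPred_eq, Set.mem_range]
    constructor
    · rintro ⟨k, hk, hx⟩
      have hk2 : k < 2 := hk
      interval_cases k
      · refine ⟨1, Subtype.ext ?_⟩
        rw [hx]
        unfold sD4
        rw [if_neg (by decide)]
        rfl
      · refine ⟨0, Subtype.ext ?_⟩
        rw [hx]
        unfold sD4
        rw [if_pos rfl]
        rfl
    · rintro ⟨i, rfl⟩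
      fin_cases i
      · refine ⟨1, by decide, ?_⟩
        show ((sD4 φ 0 : ↥(GD4 φ)) : GL chevD4.Idx K) = _
        unfold sD4
        rw [if_pos rfl]
        rfl
      · refine ⟨0, by decide, ?_⟩
        show ((sD4 φ 1 : ↥(GD4 φ)) : GL chevD4.Idx K) = _
        unfold sD4
        rw [if_neg (by decide)]
        rfl
  pU := hsyl.1
  idxU := hsyl.2
  U_le := by
    intro x hx
    rw [mem_PB φ P hPB]
    exact borel_of_posUnipotent _ ((mem_UD4 φ x).mp hx)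
  U_norm := by
    intro b hb x hx
    rw [mem_UD4]
    rw [mem_PB φ P hPB] at hb
    have := borel_conj_mem hD4 _ _ hb ((mem_UD4 φ x).mp hx)
    simpa using this
  B_eq := by
    intro b hb
    rw [mem_PB φ P hPB] at hb
    obtain ⟨x, hx, h, hh, e⟩ := borel_decomp hD4 chevData_D4.{u} twCfg_D4 φ twCfg_D4_ok' _ hb b.2
    refine ⟨⟨x, hx.2⟩, (mem_UD4 φ _).mpr hx.1, ⟨h, hh.2⟩, (mem_PH φ P hPB hPN _).mpr hh.1, Subtype.ext e⟩
  V_inf_B := by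
    rw [eq_bot_iff]
    intro x hx
    rw [Subgroup.mem_bot]
    apply Subtype.ext
    have h1 : (x : GL chevD4.Idx K) ∈ chevD4.borelSubgroup K ⊓ chevD4.negUnipotent K :=
      Subgroup.mem_inf.mpr ⟨(mem_PB φ P hPB x).mp hx.2, (mem_VD4 φ x).mp hx.1⟩
    rw [(Cfsg.Agent.S1037.result chevD4 hD4).1, Subgroup.mem_bot] at h1
    exact h1
  n₀_mem := by
    rw [mem_PN φ P hPN]
    exact nW_mem_monomial hD4 chevData_D4.{u} _
  V_eq := by
    intro g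
    rw [mem_VD4, mem_UD4]
    have := (long_conj (K := K) hD4 chevData_D4.{u} twCfg_D4 twCfg_D4_ok' [0, 1, 0, 1, 0, 1] twCfg_D4_longOK).1
      (g : GL chevD4.Idx K)
    rw [this]
    rfl
  U_eq := by
    intro g
    rw [mem_VD4, mem_UD4]
    have := (long_conj (K := K) hD4 chevData_D4.{u} twCfg_D4 twCfg_D4_ok' [0, 1, 0, 1, 0, 1] twCfg_D4_longOK).2
      (g : GL chevD4.Idx K)
    rw [this]
    rfl
  Um_le := by
    intro n x hx
    rw [mem_UD4]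
    exact closure_UnegSet_le chevD4 _ ((mem_UmD4 φ n x).mp hx)
  Um_conj := by
    intro n x hx
    rw [mem_VD4]
    have := conj_mem_neg_of_mem_closure hD4 _ _ ((mem_UmD4 φ n x).mp hx)
    simpa using this
  Um_diag := by
    intro n h hh
    rw [mem_PH φ P hPB hPN] at hh
    ext x
    rw [mem_UmD4, mem_UmD4, Subgroup.coe_mul, closure_UnegSet_mul_diag hD4 _ _ hh]
  form := by
    intro g
    obtain ⟨u₀, hu₀, n, hn, x, hx, hxG, e⟩ := exists_Gtw_form hD4 chevData_D4.{u} twCfg_D4 φ twCfg_D4_ok' _ g.2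
    refine ⟨⟨u₀, hu₀.2⟩, (mem_UD4 φ _).mpr hu₀.1, ⟨n, hn.2⟩, (mem_PN φ P hPN _).mpr hn.1, ⟨x, hxG⟩,
      (mem_UmD4 φ _ _).mpr hx, Subtype.ext e⟩
  Um_s := fun i => rfl
  Y_eq := fun i g => mem_YD4 φ i g
  X_eq := fun i g => mem_XD4_iff_long φ hXA hXB i g
  card_X := by
    intro i
    fin_cases i
    · show Nat.card ↥(XD4 φ 0) = p ^ (if (0 : Fin 2) = 0 then 3 * f else f)
      rw [if_pos rfl]
      exact card_XD4_zero φ p f hXA hφ hK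
    · show Nat.card ↥(XD4 φ 1) = p ^ (if (1 : Fin 2) = 0 then 3 * f else f)
      rw [if_neg (by decide)]
      exact card_XD4_one φ p f hXB hφ hK hf hp
  e_pos := by
    intro i
    fin_cases i
    · show 0 < (if (0 : Fin 2) = 0 then 3 * f else f)
      rw [if_pos rfl]; omega
    · show 0 < (if (1 : Fin 2) = 0 then 3 * f else f)
      rw [if_neg (by decide)]; omega

end Split

end Cfsg.Agent.Lib.Helper91.TwOut
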