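/-
helper91: project TWOUT, module [D4-SYL] (hedge of helper21's claim, warm tree): `U ∩ G¹` is a Sylow `p`-subgroup of `³D₄(q)`.
-/
import Cfsg.Agent.Lib.Helper91.TwOut.D4Split
import Cfsg.Agent.Lib.Helper18.TwOrdD4

set_option autoImplicit false
set_option linter.unusedSectionVars false

namespace Cfsg.Agent.Lib.Helper91.TwOut

open Cfsg Cfsg.Lie Cfsg.Agent.Lib.Helper18 Cfsg.Agent.Lib.Helper17

universe u

variable {K : Type u} [Field K] [Fintype K] (φ : K ≃+* K)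

theorem card_UD4 (q : ℕ) (hq : 2 ≤ q) (hφ : ∀ t : K, φ t = t ^ q) (hK : Fintype.card K = q ^ 3) :
    Nat.card ↥(UD4 φ) = q ^ 12 := by
  have h := card_posUnipotent_inf_Gtw hD4 chevData_D4.{u} twCfg_D4 φ twCfg_D4_ok' q hq hK hφ
  have hN : chevD4.nroots / 2 = 12 := by decide
  rw [hN] at h
  rw [← h]
  apply Nat.card_congr
  exact
    { toFun := fun x => ⟨((x : ↥(GD4 φ)) : GL chevD4.Idx K), Subgroup.mem_inf.mpr ⟨(mem_UD4 φ x.1).mp x.2, x.1.2⟩⟩
      invFun := fun y => ⟨⟨y.1, (Subgroup.mem_inf.mp y.2).2⟩, (mem_UD4 φ _).mpr (Subgroup.mem_inf.mp y.2).1⟩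
      left_inv := fun x => rfl
      right_inv := fun y => rfl }

/-- [D4-SYL] -/
theorem sylow_D4' (p f : ℕ) [hp : Fact p.Prime] (hφ : ∀ t : K, φ t = t ^ (p ^ f)) (hK : Fintype.card K = (p ^ f) ^ 3)
    (hf : 1 ≤ f) : IsPGroup p ↥(UD4 φ) ∧ ¬ p ∣ (UD4 φ).index := by
  have hp2 : 2 ≤ p := hp.out.two_le
  have hq : 2 ≤ p ^ f := by
    calc 2 ≤ p := hp2
      _ = p ^ 1 := (pow_one p).symm
      _ ≤ p ^ f := Nat.pow_le_pow_right (by omega) hf
  have hU := card_UD4 φ (p ^ f) hq hφ hK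
  have hG := card_twD4 (p ^ f) φ hφ hK hq
  constructor
  · apply IsPGroup.of_card (n := f * 12)
    rw [hU, ← pow_mul]
  · intro hdvd
    have hmul := Subgroup.card_mul_index (UD4 φ)
    rw [hU, hG] at hmul
    set q := p ^ f with hqdef
    have hqpos : 0 < q ^ 12 := by positivity
    have hidx : (UD4 φ).index = (q ^ 2 - 1) * (q ^ 6 - 1) * (q ^ 8 + q ^ 4 + 1) := by
      have : q ^ 12 * (UD4 φ).index = q ^ 12 * ((q ^ 2 - 1) * (q ^ 6 - 1) * (q ^ 8 + q ^ 4 + 1)) := by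
        rw [hmul]; ring
      exact Nat.eq_of_mul_eq_mul_left hqpos this
    rw [hidx] at hdvd
    have hpq : p ∣ q := dvd_pow_self p (by omega)
    have hne : ∀ k : ℕ, 0 < k → ¬ p ∣ q ^ k - 1 := by
      intro k hk hd
      have h1 : p ∣ q ^ k := dvd_pow hpq (by omega)
      have hge : 1 ≤ q ^ k := Nat.one_le_pow _ _ (by omega)
      have h2 : p ∣ q ^ k - (q ^ k - 1) := Nat.dvd_sub h1 hd
      have e : q ^ k - (q ^ k - 1) = 1 := by omega
      rw [e] at h2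
      exact hp.out.one_lt.ne' (Nat.dvd_one.mp h2)
    rcases (hp.out.dvd_mul).mp hdvd with h | h
    · rcases (hp.out.dvd_mul).mp h with h | h
      · exact hne 2 (by omega) h
      · exact hne 6 (by omega) h
    · have h1 : p ∣ q ^ 8 + q ^ 4 := dvd_add (dvd_pow hpq (by omega)) (dvd_pow hpq (by omega))
      have h2 : p ∣ 1 := (Nat.dvd_add_right h1).mp h
      exact hp.out.one_lt.ne' (Nat.dvd_one.mp h2)

end Cfsg.Agent.Lib.Helper91.TwOut
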