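/-
helper91: project TWOUT, `|Out(³D₄(q))| = 3f`: assembly for the group `GD4 φ` of helper18's machine, from the abstract
count (helper69's `card_out_rank2`) and the concrete modules.
-/
import Cfsg.Agent.Lib.Helper91.TwOut.D4Split
import Cfsg.Agent.Lib.Helper69.TwOut.TwOutCount
import Cfsg.Agent.Lib.Helper1.TwOutSL2
import Cfsg.Agent.Lib.Helper36.AutO.RingAutCard
import Cfsg.Agent.Lib.Helper18.TwOrdD4
import Cfsg.Agent.S1080

set_option autoImplicit false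
set_option linter.unusedSectionVars false

namespace Cfsg.Agent.Lib.Helper91.TwOut

open Cfsg Cfsg.Lie Cfsg.Agent.Lib.Helper18 Cfsg.Agent.Lib.Helper17

universe u

variable {K : Type u} [Field K] [Fintype K] (φ : K ≃+* K)

/-- `y_a` is injective. -/
theorem yaG_injective : Function.Injective (yaG φ) := by
  intro t t' h
  have h1 := nA_conj_xaG φ (-t)
  have h2 := nA_conj_xaG φ (-t')
  rw [neg_neg] at h1 h2
  rw [← h1, ← h2] at h
  have h3 : xaG φ (-t) = xaG φ (-t') := by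
    have := congrArg (fun z => (nA : GL chevD4.Idx K)⁻¹ * z * nA) h
    simpa [mul_assoc] using this
  exact neg_injective (xaG_injective φ h3)

/-- The value of a homomorphism from `SL₂` on the torus element, from its values on the unipotent elements. -/
theorem map_hd_eq {F : Type*} [Field F] {G : Type*} [Group G] (Φ : Matrix.SpecialLinearGroup (Fin 2) F →* G)
    (t : Fˣ) :
    Φ (hd t) = Φ (sx (t : F)) * Φ (sy (-((t⁻¹ : Fˣ) : F))) * Φ (sx (t : F)) *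
      (Φ (sx 1) * Φ (sy (-1)) * Φ (sx 1))⁻¹ := by
  obtain ⟨-, -, h3, h4, -, -⟩ := Cfsg.Agent.Lib.Helper1.TwOut.sl2_relations (F := F)
  rw [← h4 t, ← h3 t, map_mul, map_inv, map_mul, map_mul, ← h3 1, map_mul, map_mul]
  simp

section Main

variable (p f : ℕ) [Fact p.Prime] [CharP K p]

theorem card_fixField (q : ℕ) (hq : 2 ≤ q) (hφ : ∀ t : K, φ t = t ^ q) (hK : Fintype.card K = q ^ 3) :
    Nat.card ↥(fixField φ) = q := by
  rw [← card_fixed_pow hq hK]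
  apply Nat.card_congr
  exact
    { toFun := fun a => ⟨a.1, by rw [← hφ]; exact a.2⟩
      invFun := fun a => ⟨a.1, by show φ a.1 = a.1; rw [hφ]; exact a.2⟩
      left_inv := fun a => rfl
      right_inv := fun a => rfl }

theorem closure_subtype_eq_top {G : Type*} [Group G] (H : Subgroup G) (S : Set G) (hS : H = Subgroup.closure S)
    (T : Set ↥H) (hT : ∀ g (hg : g ∈ H), g ∈ S → (⟨g, hg⟩ : ↥H) ∈ T) : Subgroup.closure T = ⊤ := by
  rw [eq_top_iff]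
  rintro ⟨g, hg⟩ -
  have hg' : g ∈ Subgroup.closure S := hS ▸ hg
  have hSH : S ⊆ (H : Set G) := by
    rw [hS]
    exact Subgroup.subset_closure
  have key : ∀ x (hx : x ∈ Subgroup.closure S), ∃ hxH : x ∈ H, (⟨x, hxH⟩ : ↥H) ∈ Subgroup.closure T := by
    intro x hx
    induction hx using Subgroup.closure_induction with
    | mem x hx => exact ⟨hSH hx, Subgroup.subset_closure (hT x (hSH hx) hx)⟩
    | one => exact ⟨one_mem _, one_mem _⟩
    | mul a b _ _ iha ihb =>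
      obtain ⟨ha, ha'⟩ := iha
      obtain ⟨hb, hb'⟩ := ihb
      exact ⟨mul_mem ha hb, mul_mem ha' hb'⟩
    | inv a _ iha =>
      obtain ⟨ha, ha'⟩ := iha
      exact ⟨inv_mem ha, inv_mem ha'⟩
  obtain ⟨_, h⟩ := key g hg'
  exact h

/-- `|Out(³D₄(q))| = 3f`, for the group of helper18's machine, from the concrete modules. -/
theorem card_out_GD4 (hφ : ∀ t : K, φ t = t ^ (p ^ f)) (hK : Fintype.card K = (p ^ f) ^ 3) (hf : 1 ≤ f)
    (hsyl : IsPGroup p ↥(UD4 φ) ∧ ¬ p ∣ (UD4 φ).index)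
    (hXA : ∀ g : GL chevD4.Idx K,
      (g ∈ Subgroup.closure (UnegSet chevD4 K (nW hD4 chevData_D4.{u} [0, 2, 3])) ∧ g ∈ GD4 φ) ↔
        ∃ t : K, g = xaG φ t)
    (hXB : ∀ g : GL chevD4.Idx K,
      (g ∈ Subgroup.closure (UnegSet chevD4 K (nW hD4 chevData_D4.{u} [1])) ∧ g ∈ GD4 φ) ↔
        ∃ u : K, φ u = u ∧ g = xG hD4 14 u)
    (hΦA : ∃ Φ : Matrix.SpecialLinearGroup (Fin 2) K →* ↥(GD4 φ),
      (∀ t : K, ((Φ (sx t) : ↥(GD4 φ)) : GL chevD4.Idx K) = xaG φ t) ∧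
      (∀ t : K, ((Φ (sy t) : ↥(GD4 φ)) : GL chevD4.Idx K) = yaG φ t))
    (hΦB : ∃ Φ : Matrix.SpecialLinearGroup (Fin 2) ↥(fixField φ) →* ↥(GD4 φ),
      (∀ u : ↥(fixField φ), ((Φ (sx u) : ↥(GD4 φ)) : GL chevD4.Idx K) = xG hD4 14 (u : K)) ∧
      (∀ u : ↥(fixField φ), ((Φ (sy u) : ↥(GD4 φ)) : GL chevD4.Idx K) = xG hD4 9 (u : K)))
    (htor : ∀ h : GL chevD4.Idx K, h ∈ chevD4.diagonalSubgroup K → h ∈ GD4 φ →
      ∃ c : K, ∀ t : K, h * xaG φ t * h⁻¹ = xaG φ (c * t))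
    (hfld : ∀ τ : K ≃+* K, ∃ θ : ↥(GD4 φ) ≃* ↥(GD4 φ), ∀ g : ↥(GD4 φ),
      ((θ g : ↥(GD4 φ)) : GL chevD4.Idx K) = Cfsg.Agent.S1080.glMap chevD4 τ (g : GL chevD4.Idx K))
    (hfld2 : ∀ τ : K ≃+* K,
      (chevD4.posUnipotent K).map ((Cfsg.Agent.S1080.glMap chevD4 τ : GL chevD4.Idx K ≃* GL chevD4.Idx K) :
        GL chevD4.Idx K →* GL chevD4.Idx K) = chevD4.posUnipotent K ∧
      (chevD4.negUnipotent K).map ((Cfsg.Agent.S1080.glMap chevD4 τ : GL chevD4.Idx K ≃* GL chevD4.Idx K) :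
        GL chevD4.Idx K →* GL chevD4.Idx K) = chevD4.negUnipotent K)
    (hgen : GD4 φ = Subgroup.closure (Set.range (xaG φ) ∪ Set.range (yaG φ) ∪
      {g | ∃ u : K, φ u = u ∧ g = xG hD4 14 u} ∪ {g | ∃ u : K, φ u = u ∧ g = xG hD4 9 u})) :
    Nat.card (Out ↥(GD4 φ)) = 3 * f := by
  have hp : 2 ≤ p := (Fact.out : p.Prime).two_le
  have hq : 2 ≤ p ^ f := by
    calc 2 ≤ p := hp
      _ = p ^ 1 := (pow_one p).symm
      _ ≤ p ^ f := Nat.pow_le_pow_right (by omega) hf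
  have hφ3 := phi_cube φ p f hφ hK
  obtain ⟨P, hPB, hPN, hPS⟩ := exists_bnPair_Gtw hD4 chevData_D4.{u} twCfg_D4 φ twCfg_D4_ok' twCfg_D4_bnOK'
  obtain ⟨Φa, hΦa1, hΦa2⟩ := hΦA
  obtain ⟨Φb, hΦb1, hΦb2⟩ := hΦB
  have : Fintype ↥(fixField φ) := Fintype.ofFinite _
  have hcardK : Nat.card (K ≃+* K) = 3 * f :=
    Cfsg.Agent.Lib.Helper36.AutO.card_ringAut_eq (p := p) (f := 3 * f) (by omega)
      (by rw [hK, ← pow_mul, mul_comm])
  rw [← hcardK]
  refine Cfsg.Agent.Lib.Helper69.TwOut.card_out_rank2 (K := K) (K₀ := ↥(fixField φ))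
    (splitD4 φ p f P hPB hPN hPS hsyl hXA hXB hφ hK hf hp) ?_ (fixField φ).subtype Φa Φb
    ?_ ?_ ?_ ?_ ?_ ?_ ?_ ?_ ?_ ?_ ?_ ?_ ?_ ?_
  · -- he
    show (if (0 : Fin 2) = 0 then 3 * f else f) ≠ (if (1 : Fin 2) = 0 then 3 * f else f)
    rw [if_pos rfl, if_neg (by decide)]
    omega
  · -- hXa
    intro g
    show g ∈ XD4 φ 0 ↔ _
    rw [mem_XD4_zero φ hXA]
    constructor
    · rintro ⟨t, ht⟩
      exact ⟨t, Subtype.ext (ht.trans (hΦa1 t).symm)⟩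
    · rintro ⟨t, rfl⟩
      exact ⟨t, hΦa1 t⟩
  · -- hYa
    intro g
    show g ∈ YD4 φ 0 ↔ _
    rw [mem_YD4_zero φ hXA]
    constructor
    · rintro ⟨t, ht⟩
      exact ⟨t, Subtype.ext (ht.trans (hΦa2 t).symm)⟩
    · rintro ⟨t, rfl⟩
      exact ⟨t, hΦa2 t⟩
  · -- hXb
    intro g
    show g ∈ XD4 φ 1 ↔ _
    rw [mem_XD4_one φ hXB]
    constructor
    · rintro ⟨u, hu, ht⟩
      exact ⟨⟨u, hu⟩, Subtype.ext (ht.trans (hΦb1 ⟨u, hu⟩).symm)⟩
    · rintro ⟨u, rfl⟩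
      exact ⟨u.1, u.2, hΦb1 u⟩
  · -- hYb
    intro g
    show g ∈ YD4 φ 1 ↔ _
    rw [mem_YD4_one φ hXB]
    constructor
    · rintro ⟨u, hu, ht⟩
      exact ⟨⟨u, hu⟩, Subtype.ext (ht.trans (hΦb2 ⟨u, hu⟩).symm)⟩
    · rintro ⟨u, rfl⟩
      exact ⟨u.1, u.2, hΦb2 u⟩
  · -- hinja
    intro t t' h
    have := congrArg (fun z : ↥(GD4 φ) => (z : GL chevD4.Idx K)) h
    simp only [hΦa1] at this
    exact xaG_injective φ this
  · -- hinjya
    intro t t' h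
    have := congrArg (fun z : ↥(GD4 φ) => (z : GL chevD4.Idx K)) h
    simp only [hΦa2] at this
    exact yaG_injective φ this
  · -- hinjb
    intro t t' h
    have := congrArg (fun z : ↥(GD4 φ) => (z : GL chevD4.Idx K)) h
    simp only [hΦb1] at this
    exact Subtype.ext (Cfsg.Agent.Lib.Helper18.xG_injective hD4 14 (by decide) _ _ this)
  · -- hinjyb
    intro t t' h
    have := congrArg (fun z : ↥(GD4 φ) => (z : GL chevD4.Idx K)) h
    simp only [hΦb2] at this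
    exact Subtype.ext (Cfsg.Agent.Lib.Helper18.xG_injective hD4 9 (by decide) _ _ this)
  · -- hcross
    intro u s
    apply Subtype.ext
    have hu0 : ((u : ↥(fixField φ)) : K) ≠ 0 := by
      intro h0
      exact u.ne_zero (Subtype.ext h0)
    have hufix : φ ((u : ↥(fixField φ)) : K) = ((u : ↥(fixField φ)) : K) := (u : ↥(fixField φ)).2
    have hhd : ((Φb (hd u) : ↥(GD4 φ)) : GL chevD4.Idx K) = hPt hD4 chevData_D4.{u} 1 ((u : ↥(fixField φ)) : K) := by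
      rw [map_hd_eq Φb u]
      simp only [Subgroup.coe_mul, Subgroup.coe_inv, hΦb1, hΦb2]
      unfold hPt
      rw [sG_eq hD4 chevData_D4.{u} 1 (by decide)]
      unfold nPt
      have e1 : chevD4.simple 1 = 14 := by decide
      have e2 : chevD4.neg 14 = 9 := by decide
      rw [e1, e2]
      simp
    rw [Subgroup.coe_mul, Subgroup.coe_mul, Subgroup.coe_inv, hhd, hΦa1, hΦa1,
      hb_conj_xaG φ _ hufix hu0 s]
    rfl
  · -- hgen
    apply closure_subtype_eq_top (GD4 φ) _ hgen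
    intro g hg hgS
    rcases hgS with ((⟨t, rfl⟩ | ⟨t, rfl⟩) | ⟨u, hu, rfl⟩) | ⟨u, hu, rfl⟩
    · exact Or.inl (Or.inl (Or.inl ⟨t, Subtype.ext (hΦa1 t)⟩))
    · exact Or.inl (Or.inl (Or.inr ⟨t, Subtype.ext (hΦa2 t)⟩))
    · exact Or.inl (Or.inr ⟨⟨u, hu⟩, Subtype.ext (hΦb1 ⟨u, hu⟩)⟩)
    · exact Or.inr ⟨⟨u, hu⟩, Subtype.ext (hΦb2 ⟨u, hu⟩)⟩
  · -- hcore
    show P.B.normalCore = ⊥
    rw [hPB]
    exact tw_normalCore_eq_bot hD4 chevData_D4.{u} twCfg_D4 φ twCfg_D4_ok' [0, 1, 0, 1, 0, 1] twCfg_D4_longOK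
      (hφm_D4 φ hφ3)
  · -- hH
    show Nat.card ↥(P.B ⊓ P.N) = _
    have e : ↥(P.B ⊓ P.N) ≃ ↥(chevD4.diagonalSubgroup K ⊓ GD4 φ) :=
      { toFun := fun x => ⟨((x : ↥(GD4 φ)) : GL chevD4.Idx K),
          Subgroup.mem_inf.mpr ⟨(mem_PH φ P hPB hPN x.1).mp x.2, x.1.2⟩⟩
        invFun := fun y => ⟨⟨y.1, (Subgroup.mem_inf.mp y.2).2⟩,
          (mem_PH φ P hPB hPN _).mpr (Subgroup.mem_inf.mp y.2).1⟩
        left_inv := fun x => rfl
        right_inv := fun y => rfl }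
    rw [Nat.card_congr e, card_H1_D4 (p ^ f) φ hφ hK hq, ← Nat.card_eq_fintype_card (α := ↥(fixField φ)),
      card_fixField φ (p ^ f) hq hφ hK, hK]
    obtain ⟨k, hk⟩ : ∃ k, p ^ f = k + 1 := ⟨p ^ f - 1, by omega⟩
    rw [hk]
    have e3 : (k + 1) ^ 3 - 1 = k * ((k + 1) ^ 2 + (k + 1) + 1) := by
      apply Nat.sub_eq_of_eq_add
      ring
    rw [e3, Nat.add_sub_cancel]
    ring
  · -- htorus
    intro h hh
    have hh' := (mem_PH φ P hPB hPN h).mp hh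
    obtain ⟨c, hc⟩ := htor _ hh' h.2
    refine ⟨c, fun t => Subtype.ext ?_⟩
    rw [Subgroup.coe_mul, Subgroup.coe_mul, Subgroup.coe_inv, hΦa1, hΦa1]
    exact hc t
  · -- hfield
    intro τ
    obtain ⟨θ, hθ⟩ := hfld τ
    obtain ⟨hθs, hθs'⟩ : (∃ θ' : ↥(GD4 φ) ≃* ↥(GD4 φ), ∀ g : ↥(GD4 φ),
        ((θ' g : ↥(GD4 φ)) : GL chevD4.Idx K) = Cfsg.Agent.S1080.glMap chevD4 τ.symm (g : GL chevD4.Idx K)) := hfld τ.symm
    have hmap : ∀ (W : Subgroup (GL chevD4.Idx K)),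
        W.map ((Cfsg.Agent.S1080.glMap chevD4 τ : GL chevD4.Idx K ≃* GL chevD4.Idx K) :
          GL chevD4.Idx K →* GL chevD4.Idx K) = W →
        (W.subgroupOf (GD4 φ)).map θ.toMonoidHom = W.subgroupOf (GD4 φ) := by
      intro W hW
      ext g
      rw [Subgroup.mem_map, Subgroup.mem_subgroupOf]
      constructor
      · rintro ⟨x, hx, rfl⟩
        show ((θ x : ↥(GD4 φ)) : GL chevD4.Idx K) ∈ W
        rw [hθ, ← hW]
        exact Subgroup.mem_map_of_mem _ (Subgroup.mem_subgroupOf.mp hx)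
      · intro hg
        rw [← hW] at hg
        obtain ⟨y, hy, hyg⟩ := hg
        refine ⟨θ.symm g, ?_, θ.apply_symm_apply g⟩
        rw [Subgroup.mem_subgroupOf]
        have h1 : Cfsg.Agent.S1080.glMap chevD4 τ ((θ.symm g : ↥(GD4 φ)) : GL chevD4.Idx K) = (g : GL chevD4.Idx K) := by
          rw [← hθ, θ.apply_symm_apply]
        have h2 : ((θ.symm g : ↥(GD4 φ)) : GL chevD4.Idx K) = y :=
          (Cfsg.Agent.S1080.glMap chevD4 τ).injective (h1.trans hyg.symm)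
        rw [h2]
        exact hy
    refine ⟨θ, hmap _ (hfld2 τ).1, hmap _ (hfld2 τ).2, ?_⟩
    intro t
    apply Subtype.ext
    rw [hθ, hΦa1, hΦa1]
    unfold xaG
    rw [map_mul, map_mul, glMap_xG hD4, glMap_xG hD4, glMap_xG hD4]
    have hcomm : ∀ a : K, τ (φ a) = φ (τ a) := fun a => by rw [hφ, hφ, map_pow]
    rw [hcomm, hcomm, hcomm]

end Main

end Cfsg.Agent.Lib.Helper91.TwOut
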