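/-
helper91: project TWOUT, module [D4-TORUS] (hedge of helper21's claim, warm tree): the elements of `H ∩ G¹` act on
`x_a(t)` by a scalar.
-/
import Cfsg.Agent.Lib.Helper91.TwOut.D4Card
import Cfsg.Agent.Lib.Helper91.TwOut.D4Conj
import Cfsg.Agent.Lib.Helper69.TwOut.D4XA

set_option autoImplicit false
set_option linter.unusedSectionVars false

namespace Cfsg.Agent.Lib.Helper91.TwOut

open Cfsg Cfsg.Lie Cfsg.Agent.Lib.Helper18 Cfsg.Agent.Lib.Helper17

universe u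

variable {K : Type u} [Field K]

/-- The coefficient function of `x₁₈(a) x₁₃(b) x₁₂(c)` on the increasing list `[12, 13, 18]`. -/
def cf3 (a b c : K) (r : ℕ) : K := if r = 18 then a else if r = 13 then b else c

theorem triple_eq_sorted (a b c : K) :
    xG hD4 18 a * (xG hD4 13 b * xG hD4 12 c) = prodL hD4 [12, 13, 18] (cf3 a b c) := by
  rw [prodL_cons, prodL_cons, prodL_cons, prodL_nil, mul_one]
  have e1 : cf3 a b c 12 = c := by unfold cf3; rw [if_neg (by decide), if_neg (by decide)]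
  have e2 : cf3 a b c 13 = b := by unfold cf3; rw [if_neg (by decide), if_pos rfl]
  have e3 : cf3 a b c 18 = a := by unfold cf3; rw [if_pos rfl]
  rw [e1, e2, e3]
  have c1 := comm_18_13 (K := K) a b
  have c2 := comm_18_12 (K := K) a c
  have c3 := comm_13_12 (K := K) b c
  calc xG hD4 18 a * (xG hD4 13 b * xG hD4 12 c)
      = xG hD4 18 a * (xG hD4 12 c * xG hD4 13 b) := by rw [c3.eq]
    _ = (xG hD4 18 a * xG hD4 12 c) * xG hD4 13 b := by group
    _ = (xG hD4 12 c * xG hD4 18 a) * xG hD4 13 b := by rw [c2.eq]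
    _ = xG hD4 12 c * (xG hD4 18 a * xG hD4 13 b) := by group
    _ = xG hD4 12 c * (xG hD4 13 b * xG hD4 18 a) := by rw [c1.eq]

theorem triple_injective (a b c a' b' c' : K)
    (h : xG hD4 18 a * (xG hD4 13 b * xG hD4 12 c) = xG hD4 18 a' * (xG hD4 13 b' * xG hD4 12 c')) : a = a' := by
  rw [triple_eq_sorted, triple_eq_sorted] at h
  have hl : ∀ r ∈ [12, 13, 18], chevD4.IsPosRoot r := by
    intro r hr
    rw [isPosRoot_iff hD4]
    simp only [List.mem_cons, List.not_mem_nil, or_false] at hr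
    rcases hr with rfl | rfl | rfl <;> decide
  have := prodL_injective hD4 (lexOK_of_mem chevD4 hD4) (bezOK_of_mem chevD4 hD4) [12, 13, 18] hl
    (by decide) (cf3 a b c) (cf3 a' b' c') h 18 (by simp)
  unfold cf3 at this
  rwa [if_pos rfl, if_pos rfl] at this

variable [Fintype K] (φ : K ≃+* K)

/-- [D4-TORUS] -/
theorem torus_conj_xaG' (hφ3 : ∀ a : K, φ (φ (φ a)) = a) (h : GL chevD4.Idx K)
    (hh : h ∈ chevD4.diagonalSubgroup K) (hhG : h ∈ GD4 φ) :
    ∃ c : K, ∀ t : K, h * xaG φ t * h⁻¹ = xaG φ (c * t) := by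
  obtain ⟨c, hc, hzc⟩ := Cfsg.Agent.S1034.mem_diagonalSubgroup_torus chevD4 hD4 h hh
  refine ⟨chiFun (D := chevD4) c 18, ?_⟩
  intro t
  -- conjugation by `h` preserves `U_{n_a}^-`
  have hpres : ∀ x ∈ Subgroup.closure (UnegSet chevD4 K (nW hD4 chevData_D4.{u} [0, 2, 3])),
      h * x * h⁻¹ ∈ Subgroup.closure (UnegSet chevD4 K (nW hD4 chevData_D4.{u} [0, 2, 3])) := by
    apply conj_closure_le
    rintro x ⟨r, a, hr, hle, hx⟩
    have hx' : x = xG hD4 r a := eq_xG hD4 _ r a hx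
    rw [hx', torus_conj_xG hD4 h c hc hzc r hr.1 a]
    exact Subgroup.subset_closure ⟨r, _, hr, hle, coe_xG hD4 r _⟩
  have h1 := (Cfsg.Agent.Lib.Helper69.TwOut.mem_UnegA φ hφ3 (xaG φ t)).mpr ⟨t, rfl⟩
  have h2 : h * xaG φ t * h⁻¹ ∈ GD4 φ := mul_mem (mul_mem hhG h1.2) (inv_mem hhG)
  obtain ⟨t', ht'⟩ := (Cfsg.Agent.Lib.Helper69.TwOut.mem_UnegA φ hφ3 _).mp ⟨hpres _ h1.1, h2⟩
  rw [ht']
  have h3 : h * xaG φ t * h⁻¹ = xG hD4 18 (chiFun (D := chevD4) c 18 * t) *
      (xG hD4 13 (chiFun (D := chevD4) c 13 * φ t) * xG hD4 12 (chiFun (D := chevD4) c 12 * φ (φ t))) := by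
    unfold xaG
    rw [conj_mul3, torus_conj_xG hD4 h c hc hzc 18 (by decide), torus_conj_xG hD4 h c hc hzc 13 (by decide),
      torus_conj_xG hD4 h c hc hzc 12 (by decide)]
  rw [h3] at ht'
  have h4 : xaG φ t' = xG hD4 18 t' * (xG hD4 13 (φ t') * xG hD4 12 (φ (φ t'))) := rfl
  rw [h4] at ht'
  have := triple_injective _ _ _ _ _ _ ht'
  rw [this]

end Cfsg.Agent.Lib.Helper91.TwOut
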